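import Cfsg.Agent.H657.DS.LieSmall
import Cfsg.Agent.H691.AN.Defs
import Cfsg.Agent.H816.OutEmb

/-!
# S4908, SOC1LIE: socles of Lie type (helper690)

* `st_mem` : the Steinberg degree `|S|_p` of a normal subgroup `S` of Lie type is a degree of `A`;
* `lie_none` : impossible if the degree set `D` contains no prime power;
* `lie_false` : the same if the prime powers in `D` are primes `p > 5` with `p + 1, 2 (p + 1) ∉ D`, or `16`, `32` under
  the conditions `17 ∤ d`, `31 ∤ d`.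
-/

set_option autoImplicit false

namespace Cfsg.Agent.H690.S8

open Cfsg Cfsg.Agent.H704 Cfsg.Agent.NotCT Cfsg.Agent.H657.DS
open Cfsg.Agent.H691.AN (AlmostSimple)

universe u

variable {D : Set ℕ} {A : Type u} [Group A] [Finite A]

/-- the Steinberg degree -/
theorem st_mem (S : Subgroup A) [S.Normal] [IsSimpleGroup S] (h : charDegrees A ⊆ D) {p : ℕ} (hp : p.Prime)
    (hl : IsLieTypeChar p S) : p ^ (Nat.card S).factorization p ∈ D := by
  have := Fact.mk hp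
  obtain ⟨χ, hχ, -, hχ1⟩ := H691.StExt.exists_ext S (H996.AllSplit.hasSplit_of_lie hp hl)
  obtain ⟨Q⟩ := (inferInstance : Nonempty (Sylow p S))
  have h1 := hχ1 Q
  rw [Q.card_eq_multiplicity] at h1
  exact h (H681.DegBasic.mem_charDegrees.2 ⟨χ, hχ, h1⟩)

/-- the type of the group -/
theorem typ_mem_D (S : Subgroup A) [S.Normal] [IsSimpleGroup S] (h : charDegrees A ⊆ D) {p : ℕ} (hp : p.Prime)
    (hl : IsLieTypeChar p S) :
    ∃ (t : Typ) (k : ℕ), t.Valid p k ∧ IsTyp t (p ^ k) S ∧ 0 < k * t.N ∧ p ^ (k * t.N) ∈ D := by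
  obtain ⟨t, k, hv, ht⟩ := exists_typ hp hl
  have ho := card_eq hp hv ht
  have h0 := H808.SmallSylow.ordProj_eq hp Nat.card_pos.ne' (dvd_card hp hv ho) (not_dvd_card hp hv ho)
  refine ⟨t, k, hv, ht, Nat.mul_pos (one_le_k hv) (N_pos hv), ?_⟩
  rw [← h0]
  exact st_mem S h hp hl

/-- over a degree of `S` -/
theorem over_mem (S : Subgroup A) [S.Normal] (h : charDegrees A ⊆ D) {c : ℕ} (hc : c ∈ charDegrees S) :
    ∃ d ∈ D, c ∣ d ∧ d / c ∣ S.index := by
  obtain ⟨d, hd, h1, h2⟩ := H424.DegTools.clifford_up S hc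
  exact ⟨d, h hd, h1, h2⟩

/-- **no prime powers.** -/
theorem lie_none (hD : ∀ p a : ℕ, p.Prime → 0 < a → p ^ a ∉ D) {S : Subgroup A} (hA : AlmostSimple A S)
    (h : charDegrees A ⊆ D) {p : ℕ} (hp : p.Prime) (hl : IsLieTypeChar p S) : False := by
  have := hA.normal
  have := hA.simple
  obtain ⟨t, k, -, -, h1, h2⟩ := typ_mem_D S h hp hl
  exact hD p _ hp h1 h2

theorem typs_one : ∀ t ∈ typs 1, t.N = 1 → t = Typ.L 2 ∨ t = .S 1 ∨ t = .U 2 ∨ t = .OO 1 := by decide +kernel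

theorem typ_prime {p : ℕ} {t : Typ} {k : ℕ} (hv : t.Valid p k) (hk : k * t.N = 1) : t = Typ.L 2 ∧ k = 1 := by
  have h1 : k = 1 := Nat.eq_one_of_mul_eq_one_right hk
  have h2 : t.N = 1 := Nat.eq_one_of_mul_eq_one_left hk
  refine ⟨?_, h1⟩
  rcases typs_one t (mem_typs hv hk) h2 with rfl | rfl | rfl | rfl
  · rfl
  · exact absurd hv.2.1 (by norm_num)
  · exact absurd hv.2.1 (by norm_num)
  · exact absurd hv.2.1 (by norm_num)

theorem typ_32 {t : Typ} {k : ℕ} (hv : t.Valid 2 k) (hk : k * t.N = 5) : (t, k) ∈ [(Typ.L 2, 5)] :=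
  typ_mem 2 5 _ (by decide +kernel) hv hk

/-- **Lie type.** -/
theorem lie_false (hpr : ∀ p : ℕ, p.Prime → p ∈ D → 5 < p ∧ p + 1 ∉ D ∧ 2 * (p + 1) ∉ D)
    (hpp : ∀ p a : ℕ, p.Prime → 2 ≤ a → p ^ a ∈ D → p = 2 ∧ (a = 4 ∨ a = 5))
    (h16 : 16 ∈ D → ∀ d ∈ D, ¬ 17 ∣ d) (h32 : 32 ∈ D → ∀ d ∈ D, ¬ 31 ∣ d)
    {S : Subgroup A} (hA : AlmostSimple A S) (h : charDegrees A ⊆ D) {p : ℕ} (hp : p.Prime)
    (hl : IsLieTypeChar p S) : False := by
  have := hA.normal
  have := hA.simple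
  have hi : S.index ∣ Nat.card (Cfsg.Out S) := H816.OutEmb.index_dvd S (by rw [hA.cent]; exact bot_le)
  obtain ⟨t, k, hv, ht, h1, h2⟩ := typ_mem_D S h hp hl
  rcases (show k * t.N = 1 ∨ 2 ≤ k * t.N by omega) with ha | ha
  · obtain ⟨rfl, rfl⟩ := typ_prime hv ha
    rw [ha, pow_one] at h2
    obtain ⟨h3, h4, h5⟩ := hpr p hp h2
    obtain ⟨F, _, _, hF, ⟨e⟩⟩ := ht
    rw [pow_one] at hF
    obtain ⟨-, h6, -⟩ := H664.R1.PSLTwo.degrees_odd (F := F)
      (by rw [hF]; exact hp.odd_of_ne_two (by omega)) (by rw [hF]; exact h3)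
    rw [hF] at h6
    have : Fact p.Prime := ⟨hp⟩
    have ho : Nat.card (Out S) = 2 := by
      rw [Nat.card_congr (H234.OutGood.outCongr e).toEquiv,
        H60.HalfPsl.card_out (F := F) (p := p) (f := 1) (by norm_num) (by rw [pow_one]; exact hF)
          (by rw [pow_one]; omega), pow_one, mul_one]
      obtain ⟨m, hm⟩ := hp.odd_of_ne_two (by omega)
      exact Nat.gcd_eq_left ⟨m, by omega⟩
    rw [ho] at hi
    obtain ⟨d, h7, ⟨c, h8⟩, h9⟩ := over_mem S h (mem_equiv e h6)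
    subst h8
    rw [Nat.mul_div_cancel_left _ (by omega)] at h9
    have h10 : c ∣ 2 := h9.trans hi
    rcases (Nat.dvd_prime Nat.prime_two).1 h10 with rfl | rfl
    · rw [mul_one] at h7; exact h4 h7
    · rw [mul_comm] at h7; exact h5 h7
  · obtain ⟨rfl, h3⟩ := hpp p _ hp ha h2
    rcases h3 with h3 | h3
    · have h4 := typ_16 hv h3
      simp only [List.mem_cons, List.not_mem_nil, or_false, Prod.mk.injEq] at h4
      obtain ⟨rfl, rfl⟩ := h4
      obtain ⟨F, _, _, hF, ⟨e⟩⟩ := ht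
      have : CharP F 2 := H175.Eight.charP_of_card Nat.prime_two hF
      obtain ⟨-, h17, -⟩ := H664.R1.PSLTwo.degrees_even (F := F) (by rw [hF]; norm_num)
      rw [hF] at h17
      obtain ⟨d, h7, h8, -⟩ := over_mem S h (mem_equiv e h17)
      rw [h3] at h2
      exact h16 h2 d h7 h8
    · have h4 := typ_32 hv h3
      simp only [List.mem_cons, List.not_mem_nil, or_false, Prod.mk.injEq] at h4
      obtain ⟨rfl, rfl⟩ := h4
      obtain ⟨F, _, _, hF, ⟨e⟩⟩ := ht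
      have : CharP F 2 := H175.Eight.charP_of_card Nat.prime_two hF
      obtain ⟨-, -, h31⟩ := H664.R1.PSLTwo.degrees_even (F := F) (by rw [hF]; norm_num)
      rw [hF] at h31
      obtain ⟨d, h7, h8, -⟩ := over_mem S h (mem_equiv e h31)
      rw [h3] at h2
      exact h32 h2 d h7 h8

/-! ### the check for an explicit superset of `D` -/

/-- the primes up to `71` -/
def prs : List ℕ := [2, 3, 5, 7, 11, 13, 17, 19, 23, 29, 31, 37, 41, 43, 47, 53, 59, 61, 67, 71]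

theorem prs_prime : ∀ m ∈ prs, m.Prime := by
  intro m hm
  simp only [prs, List.mem_cons, List.not_mem_nil, or_false] at hm
  rcases hm with rfl | rfl | rfl | rfl | rfl | rfl | rfl | rfl | rfl | rfl | rfl | rfl | rfl | rfl | rfl | rfl | rfl |
    rfl | rfl | rfl <;> norm_num

/-- two different small prime divisors -/
def npp (m : ℕ) : Bool := prs.any fun a => m % a == 0 && prs.any fun b => a != b && m % b == 0

theorem not_pp {m : ℕ} (h : npp m = true) {p a : ℕ} (hp : p.Prime) : m ≠ p ^ a := by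
  rintro rfl
  simp only [npp, List.any_eq_true, Bool.and_eq_true, beq_iff_eq, bne_iff_ne] at h
  obtain ⟨x, hx, h1, y, hy, h2, h3⟩ := h
  have h4 := (Nat.prime_dvd_prime_iff_eq (prs_prime x hx) hp).1
    ((prs_prime x hx).dvd_of_dvd_pow (Nat.dvd_of_mod_eq_zero h1))
  have h5 := (Nat.prime_dvd_prime_iff_eq (prs_prime y hy) hp).1
    ((prs_prime y hy).dvd_of_dvd_pow (Nat.dvd_of_mod_eq_zero h3))
  exact h2 (h4.trans h5.symm)

/-- the check -/
def chk (L : List ℕ) : Bool := L.all fun m => m == 1 || npp m ||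
  (prs.contains m && Nat.blt 5 m && !L.contains (m + 1) && !L.contains (2 * (m + 1))) ||
  (m == 16 && L.all fun d => d % 17 != 0) || (m == 32 && L.all fun d => d % 31 != 0)

theorem chk_spec {L : List ℕ} (h : chk L = true) {p a : ℕ} (hp : p.Prime) (ha : 0 < a) (hm : p ^ a ∈ L) :
    (a = 1 ∧ 5 < p ∧ p + 1 ∉ L ∧ 2 * (p + 1) ∉ L) ∨ (p = 2 ∧ a = 4 ∧ ∀ d ∈ L, ¬ 17 ∣ d) ∨
      (p = 2 ∧ a = 5 ∧ ∀ d ∈ L, ¬ 31 ∣ d) := by
  have h1 := List.all_eq_true.1 h _ hm
  simp only [Bool.or_eq_true, Bool.and_eq_true, beq_iff_eq, List.contains_iff_mem, Nat.blt_eq, Bool.not_eq_true',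
    List.all_eq_true, bne_iff_ne] at h1
  rcases h1 with (((h1 | h1) | ⟨⟨⟨h1, h2⟩, h3⟩, h4⟩) | ⟨h1, h2⟩) | ⟨h1, h2⟩
  · exfalso
    exact (Nat.one_lt_pow ha.ne' hp.one_lt).ne' h1
  · exact absurd rfl (not_pp h1 hp)
  · left
    have h5 := prs_prime _ h1
    have h6 : a = 1 := by
      by_contra hcon
      have h7 : 2 ≤ a := by omega
      exact Nat.Prime.not_prime_pow h7 h5
    subst h6
    rw [pow_one] at h2 h3 h4
    refine ⟨rfl, h2, ?_, ?_⟩
    · intro hc; rw [← List.contains_iff_mem, h3] at hc; exact Bool.noConfusion hc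
    · intro hc; rw [← List.contains_iff_mem, h4] at hc; exact Bool.noConfusion hc
  · right; left
    have h3 : (2 : ℕ) ∣ p ^ a := by rw [h1]; norm_num
    have h4 : p = 2 := ((Nat.prime_dvd_prime_iff_eq Nat.prime_two hp).1 (Nat.prime_two.dvd_of_dvd_pow h3)).symm
    subst h4
    refine ⟨rfl, Nat.pow_right_injective (le_refl 2) (h1.trans (by norm_num)), fun d hd hc => h2 d hd ?_⟩
    exact Nat.mod_eq_zero_of_dvd hc
  · right; right
    have h3 : (2 : ℕ) ∣ p ^ a := by rw [h1]; norm_num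
    have h4 : p = 2 := ((Nat.prime_dvd_prime_iff_eq Nat.prime_two hp).1 (Nat.prime_two.dvd_of_dvd_pow h3)).symm
    subst h4
    refine ⟨rfl, Nat.pow_right_injective (le_refl 2) (h1.trans (by norm_num)), fun d hd hc => h2 d hd ?_⟩
    exact Nat.mod_eq_zero_of_dvd hc

/-- **Lie type, with an explicit superset of `D`.** -/
theorem lie_false_list {L : List ℕ} (hL : ∀ d ∈ D, d ∈ L) (hc : chk L = true)
    {S : Subgroup A} (hA : AlmostSimple A S) (h : charDegrees A ⊆ D) {p : ℕ} (hp : p.Prime)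
    (hl : IsLieTypeChar p S) : False := by
  refine lie_false ?_ ?_ ?_ ?_ hA h hp hl
  · intro p hp h1
    have h2 := hL p h1
    rcases chk_spec hc hp (a := 1) one_pos (by rwa [pow_one]) with ⟨-, h3, h4, h5⟩ | ⟨-, h3, -⟩ | ⟨-, h3, -⟩
    · exact ⟨h3, fun h => h4 (hL _ h), fun h => h5 (hL _ h)⟩
    · omega
    · omega
  · intro p a hp ha h1
    rcases chk_spec hc hp (a := a) (by omega) (hL _ h1) with ⟨h3, -⟩ | ⟨h2, h3, -⟩ | ⟨h2, h3, -⟩
    · omega
    · exact ⟨h2, Or.inl h3⟩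
    · exact ⟨h2, Or.inr h3⟩
  · intro h1 d hd
    rcases chk_spec hc Nat.prime_two (a := 4) (by norm_num) (hL _ h1) with ⟨h3, -⟩ | ⟨-, -, h3⟩ | ⟨-, h3, -⟩
    · omega
    · exact h3 d (hL d hd)
    · omega
  · intro h1 d hd
    rcases chk_spec hc Nat.prime_two (a := 5) (by norm_num) (hL _ h1) with ⟨h3, -⟩ | ⟨-, h3, -⟩ | ⟨-, -, h3⟩
    · omega
    · omega
    · exact h3 d (hL d hd)

end Cfsg.Agent.H690.S8
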