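import Cfsg.Agent.H690.S8.Lie
import Cfsg.Agent.H704.S8.Defs
import Cfsg.Agent.PreUniq.Cases

/-!
# S4908, SOC1: the glue (helper690)

`soc1_of`, `soc1_list` : `Soc1 D X` from the alternating, the Tits and the sporadic case and (Lie type) a superset list
of `D`.
-/

set_option autoImplicit false

namespace Cfsg.Agent.H690.S8

open Cfsg
open Cfsg.Agent.H691.AN (AlmostSimple)
open Cfsg.Agent.H704.S8 (Soc1)

universe u v

variable {D : Set ℕ} {X : Type v} [Group X]

theorem soc1_of (hkn : ∀ (T : Type u) [Group T] [Finite T] [IsSimpleGroup T], IsKnownSimple' T)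
    (halt : ∀ (A : Type u) [Group A] [Finite A] (S : Subgroup A), AlmostSimple A S → charDegrees A ⊆ D →
      IsAlternating S → Nonempty (S ≃* X))
    (hlie : ∀ (A : Type u) [Group A] [Finite A] (S : Subgroup A), AlmostSimple A S → charDegrees A ⊆ D →
      ∀ p : ℕ, p.Prime → IsLieTypeChar p S → False)
    (htits : ∀ (A : Type u) [Group A] [Finite A] (S : Subgroup A), AlmostSimple A S → charDegrees A ⊆ D →
      Lie.IsoTits S → Nonempty (S ≃* X))
    (hspor : ∀ (A : Type u) [Group A] [Finite A] (S : Subgroup A), AlmostSimple A S → charDegrees A ⊆ D →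
      IsSporadicGroup S → Nonempty (S ≃* X)) : Soc1.{u} D X := by
  intro A _ _ S hA h
  have := hA.simple
  rcases PreUniq.known_cases (hkn S) with h1 | h1 | ⟨p, hp, h1⟩ | h1 | h1
  · exfalso
    have : Fact (Nat.card S).Prime := ⟨h1⟩
    have : IsCyclic S := isCyclic_of_prime_card (p := Nat.card S) rfl
    exact hA.nonab inferInstance
  · exact halt A S hA h h1
  · exact (hlie A S hA h p hp h1).elim
  · exact htits A S hA h h1
  · exact hspor A S hA h h1

/-- with an explicit superset of `D` -/
theorem soc1_list (hkn : ∀ (T : Type u) [Group T] [Finite T] [IsSimpleGroup T], IsKnownSimple' T)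
    {L : List ℕ} (hL : ∀ d ∈ D, d ∈ L) (hc : chk L = true)
    (halt : ∀ (A : Type u) [Group A] [Finite A] (S : Subgroup A), AlmostSimple A S → charDegrees A ⊆ D →
      IsAlternating S → Nonempty (S ≃* X))
    (htits : ∀ (A : Type u) [Group A] [Finite A] (S : Subgroup A), AlmostSimple A S → charDegrees A ⊆ D →
      Lie.IsoTits S → Nonempty (S ≃* X))
    (hspor : ∀ (A : Type u) [Group A] [Finite A] (S : Subgroup A), AlmostSimple A S → charDegrees A ⊆ D →
      IsSporadicGroup S → Nonempty (S ≃* X)) : Soc1.{u} D X :=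
  soc1_of hkn halt (fun _ _ _ _ hA h _ hp hl => lie_false_list hL hc hA h hp hl) htits hspor

end Cfsg.Agent.H690.S8
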